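import Cfsg.Agent.PiHall23.Sep

/-!
The class C_π is closed under extensions, given the odd order theorem.
-/

set_option autoImplicit false
set_option linter.style.haveILetI false

namespace Cfsg.Agent.PiHall23

open Subgroup
open Cfsg.Agent.OddOrderGlue

universe u

variable {π : Set ℕ} {G : Type u} [Group G] [Finite G]

theorem isPiHall_map_conj {H : Subgroup G} (hH : IsPiHall π H) (g : G) :
    IsPiHall π (H.map (MulAut.conj g).toMonoidHom) :=
  ⟨fun p hp h => hH.1 p hp (h.trans (card_map_dvd H _)),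
    fun p hp hπ h => hH.2 p hp hπ (h.trans (index_map_dvd H (MulAut.conj g).surjective))⟩

theorem map_conj_conj (H : Subgroup G) (g g' : G) :
    (H.map (MulAut.conj g).toMonoidHom).map (MulAut.conj g').toMonoidHom
      = H.map (MulAut.conj (g' * g)).toMonoidHom := by
  rw [map_map]
  congr 1
  ext x
  simp [mul_assoc]

theorem relIndex_dvd_relIndex_of_normal (A H : Subgroup G) [A.Normal] :
    (H ⊓ A).relIndex A ∣ H.index := by
  have e1 : (H ⊓ A).relIndex A * Nat.card ↥(H ⊓ A) = Nat.card A := by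
    rw [mul_comm, ← relIndex_bot_left, relIndex_mul_relIndex _ _ _ bot_le inf_le_right,
      relIndex_bot_left]
  have e2 : A.relIndex H * Nat.card ↥(H ⊓ A) = Nat.card H := by
    have : (A ⊓ H).relIndex H = A.relIndex H := inf_relIndex_right A H
    rw [mul_comm, ← relIndex_bot_left, ← this, inf_comm A H,
      relIndex_mul_relIndex _ _ _ bot_le inf_le_left, relIndex_bot_left]
  have e3 : A.relIndex H * Nat.card A = Nat.card ↥(H ⊔ A) := by
    rw [← relIndex_sup_right H A, mul_comm, ← relIndex_bot_left (H := A),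
      relIndex_mul_relIndex _ _ _ bot_le le_sup_right, relIndex_bot_left]
  have e4 : (H.relIndex (H ⊔ A)) * Nat.card H = Nat.card ↥(H ⊔ A) := by
    rw [mul_comm, ← relIndex_bot_left (H := H),
      relIndex_mul_relIndex _ _ _ bot_le le_sup_left, relIndex_bot_left]
  have hpos : 0 < A.relIndex H * Nat.card ↥(H ⊓ A) := e2 ▸ Nat.card_pos
  have : (H ⊓ A).relIndex A = H.relIndex (H ⊔ A) := by
    apply Nat.eq_of_mul_eq_mul_left hpos
    calc A.relIndex H * Nat.card ↥(H ⊓ A) * (H ⊓ A).relIndex A
        = A.relIndex H * ((H ⊓ A).relIndex A * Nat.card ↥(H ⊓ A)) := by ring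
      _ = Nat.card ↥(H ⊔ A) := by rw [e1, e3]
      _ = H.relIndex (H ⊔ A) * Nat.card H := e4.symm
      _ = _ := by rw [e2]; ring
  rw [this]
  exact relIndex_dvd_index_of_le le_sup_left

theorem sep_subgroupOf {A HA M : Subgroup G} (hA : A.Normal) (hM : M ≤ normalizer (HA : Set G))
    (hHAM : HA ≤ M) (hHAA : HA ≤ A) (h1 : ∀ p : ℕ, p.Prime → p ∣ Nat.card HA → p ∈ π)
    (h2 : ∀ p : ℕ, p.Prime → p ∈ π → ¬ p ∣ HA.relIndex A)
    (h3 : ∀ p : ℕ, p.Prime → p ∣ A.relIndex M → p ∈ π) : Sep π M := by
  haveI := hA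
  refine ⟨3, ![⊥, HA.subgroupOf M, A.subgroupOf M, ⊤], rfl, rfl, ?_, ?_, ?_⟩
  · rw [Fin.monotone_iff_le_succ]
    intro i
    fin_cases i
    · exact bot_le
    · exact comap_mono hHAA
    · exact le_top
  · intro i
    fin_cases i
    · exact (inferInstance : (⊥ : Subgroup M).Normal)
    · exact (normal_subgroupOf_iff_le_normalizer hHAM).2 hM
    · exact (inferInstance : (A.subgroupOf M).Normal)
    · exact (inferInstance : (⊤ : Subgroup M).Normal)
  · intro i
    fin_cases i
    · left
      intro q hq h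
      apply h1 q hq
      change q ∣ (⊥ : Subgroup M).relIndex (HA.subgroupOf M) at h
      rwa [relIndex_bot_left, Nat.card_congr (subgroupOfEquivOfLe hHAM).toEquiv] at h
    · right
      intro q hq h hπ
      apply h2 q hq hπ
      change q ∣ (HA.subgroupOf M).relIndex (A.subgroupOf M) at h
      have e : (HA.subgroupOf M).relIndex (A.subgroupOf M) = HA.relIndex (A ⊓ M) := by
        rw [subgroupOf, relIndex_comap, subgroupOf_map_subtype]
      rw [e] at h
      exact h.trans (Dvd.intro _ (relIndex_mul_relIndex HA (A ⊓ M) A (le_inf hHAA hHAM) inf_le_left))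
    · left
      intro q hq h
      apply h3 q hq
      change q ∣ (A.subgroupOf M).relIndex ⊤ at h
      rwa [relIndex_top_right] at h

theorem cpi_ext (hFT : FeitThompson.{u}) (A : Subgroup G) [A.Normal]
    (hA : IsCPiGroup π A) (hQ : IsCPiGroup π (G ⧸ A)) : IsCPiGroup π G := by
  obtain ⟨⟨HA', hHA'⟩, hconjA⟩ := hA
  obtain ⟨⟨Kb, hKb⟩, hconjQ⟩ := hQ
  set f := QuotientGroup.mk' A with hf
  have hs : Function.Surjective f := QuotientGroup.mk'_surjective A
  have hker : f.ker = A := QuotientGroup.ker_mk' A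
  set HA : Subgroup G := HA'.map A.subtype with hHAdef
  have hHAA : HA ≤ A := map_subtype_le _
  have hcHA : Nat.card HA = Nat.card HA' :=
    (Nat.card_congr (HA'.equivMapOfInjective _ (subtype_injective _)).toEquiv).symm
  have hsubOf : HA.subgroupOf A = HA' :=
    comap_map_eq_self_of_injective (subtype_injective A) HA'
  have hiHA : HA.relIndex A = HA'.index := by rw [relIndex, hsubOf]
  -- Frattini: every coset of `A` meets the normalizer of `HA`
  have hfr : ∀ g : G, ∃ a ∈ A, a * g ∈ normalizer (HA : Set G) := by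
    intro g
    set H' : Subgroup G := HA.map (MulAut.conj g).toMonoidHom with hH'
    have hH'A : H' ≤ A := by
      rintro _ ⟨x, hx, rfl⟩
      exact Normal.conj_mem inferInstance x (hHAA hx) g
    have hH'c : Nat.card H' = Nat.card HA :=
      (Nat.card_congr (HA.equivMapOfInjective _ (MulAut.conj g).injective).toEquiv).symm
    have hc : Nat.card (H'.subgroupOf A) = Nat.card HA' := by
      rw [Nat.card_congr (subgroupOfEquivOfLe hH'A).toEquiv, hH'c, hcHA]
    have hi : (H'.subgroupOf A).index = HA'.index := by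
      have e1 := (H'.subgroupOf A).card_mul_index
      rw [hc, ← HA'.card_mul_index] at e1
      exact Nat.eq_of_mul_eq_mul_left Nat.card_pos e1
    obtain ⟨a, ha⟩ := hconjA (H'.subgroupOf A) HA'
      ⟨fun p hp h => hHA'.1 p hp (hc ▸ h), fun p hp hπ h => hHA'.2 p hp hπ (hi ▸ h)⟩ hHA'
    refine ⟨a, a.2, ?_⟩
    have key : HA.map (MulAut.conj ((a : G) * g)).toMonoidHom = HA := by
      refine eq_of_le_of_card_ge ?_ (le_of_eq
        (Nat.card_congr (HA.equivMapOfInjective _ (MulAut.conj ((a : G) * g)).injective).toEquiv))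
      rintro _ ⟨x, hx, rfl⟩
      have h1 : g * x * g⁻¹ ∈ H' := ⟨x, hx, rfl⟩
      have h2 : a * (⟨g * x * g⁻¹, hH'A h1⟩ : A) * a⁻¹ ∈ HA' := by
        rw [ha]
        exact ⟨⟨g * x * g⁻¹, hH'A h1⟩, h1, rfl⟩
      exact ⟨_, h2, by simp [mul_assoc]⟩
    rw [mem_normalizer_iff]
    intro x
    conv_rhs => rw [← key]
    constructor
    · intro hx
      exact ⟨x, hx, rfl⟩
    · rintro ⟨y, hy, hy'⟩
      rwa [← (MulAut.conj ((a : G) * g)).injective (show MulAut.conj ((a : G) * g) y
        = MulAut.conj ((a : G) * g) x from hy')]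
  constructor
  · -- existence
    set M : Subgroup G := normalizer (HA : Set G) ⊓ Kb.comap f with hM
    have hHAM : HA ≤ M := le_inf le_normalizer
      (hHAA.trans (hker.symm.le.trans (ker_le_comap f Kb)))
    have hrel : A.relIndex M ∣ Nat.card Kb := by
      have : A.relIndex M = Nat.card (M.map f) := by
        rw [← relIndex_bot_left, ← map_bot f, relIndex_map_map, bot_sup_eq, hker,
          relIndex_sup_right]
      rw [this]
      exact card_dvd_of_le (map_le_iff_le_comap.2 inf_le_right)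
    obtain ⟨⟨X, hX⟩, -⟩ := sep_aux (π := π) hFT _ M rfl (sep_subgroupOf inferInstance inf_le_left
      hHAM hHAA (fun p hp h => hHA'.1 p hp (hcHA ▸ h))
      (fun p hp hπ h => hHA'.2 p hp hπ (hiHA ▸ h)) (fun p hp h => hKb.1 p hp (h.trans hrel)))
    refine ⟨X.map M.subtype, fun p hp h => hX.1 p hp (h.trans (card_map_dvd X _)), fun p hp hπ h => ?_⟩
    rw [index_map_subtype, ← relIndex_mul_index (show M ≤ Kb.comap f from inf_le_right),
      index_comap_of_surjective _ hs] at h
    rcases hp.dvd_mul.1 h with h | h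
    · exact hX.2 p hp hπ h
    rcases hp.dvd_mul.1 h with h | h
    swap
    · exact hKb.2 p hp hπ h
    -- `M` has index dividing `|A : HA|` in the preimage
    apply hHA'.2 p hp hπ
    rw [← hiHA]
    refine h.trans ?_
    have hsup : Kb.comap f = M ⊔ A := by
      refine le_antisymm (fun g hg => ?_) (sup_le inf_le_right (hker.symm.le.trans (ker_le_comap f Kb)))
      obtain ⟨a, ha, hn⟩ := hfr g
      have hag : a * g ∈ M := ⟨hn, mul_mem ((hker.symm.le.trans (ker_le_comap f Kb)) ha) hg⟩
      have := mul_mem (mem_sup_right (S := M) (inv_mem ha)) (mem_sup_left (T := A) hag)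
      simpa using this
    rw [hsup]
    have h4 : M.relIndex (M ⊔ A) = (M ⊓ A).relIndex A := by
      have e2 := relIndex_mul_relIndex (M ⊓ A) M (M ⊔ A) inf_le_left le_sup_left
      have e3 := relIndex_mul_relIndex (M ⊓ A) A (M ⊔ A) inf_le_right le_sup_right
      rw [relIndex_sup_right, inf_comm M A, inf_relIndex_right, ← inf_comm M A] at *
      have hpos : 0 < A.relIndex M := Nat.pos_of_ne_zero index_ne_zero_of_finite
      exact Nat.eq_of_mul_eq_mul_left hpos (by rw [e2, ← e3]; ring)
    rw [h4]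
    exact Dvd.intro_left _ (relIndex_mul_relIndex HA (M ⊓ A) A (le_inf hHAM hHAA) inf_le_right)
  · -- conjugacy
    intro H K hH hK
    -- first make both meet `A` in `HA`
    have step1 : ∀ H : Subgroup G, IsPiHall π H → ∃ g : G,
        (H.map (MulAut.conj g).toMonoidHom) ⊓ A = HA := by
      intro H hH
      have hI : IsPiHall π ((H ⊓ A).subgroupOf A) :=
        ⟨fun p hp h => hH.1 p hp (h.trans
          ((dvd_of_eq (Nat.card_congr (subgroupOfEquivOfLe inf_le_right).toEquiv)).trans
            (card_dvd_of_le inf_le_left))),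
        fun p hp hπ h => hH.2 p hp hπ (h.trans (relIndex_dvd_relIndex_of_normal A H))⟩
      obtain ⟨a, ha⟩ := hconjA _ _ hI hHA'
      refine ⟨a, le_antisymm ?_ ?_⟩
      · rintro _ ⟨⟨x, hx, rfl⟩, hxA⟩
        have hxA' : x ∈ A := by
          have := Normal.conj_mem (inferInstance : A.Normal) _ hxA (a : G)⁻¹
          simpa [mul_assoc] using this
        refine ⟨a * ⟨x, hxA'⟩ * a⁻¹, ?_, by simp [mul_assoc]⟩
        rw [SetLike.mem_coe, ha]
        exact ⟨⟨x, hxA'⟩, ⟨hx, hxA'⟩, rfl⟩
      · rintro _ ⟨y, hy, rfl⟩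
        rw [SetLike.mem_coe, ha] at hy
        obtain ⟨x, hx, rfl⟩ := hy
        exact ⟨⟨x, hx.1, by simp⟩, (MulAut.conj a x).2⟩
    suffices key : ∀ H K : Subgroup G, IsPiHall π H → IsPiHall π K → H ⊓ A = HA → K ⊓ A = HA →
        ∃ g : G, K = H.map (MulAut.conj g).toMonoidHom by
      obtain ⟨g1, h1⟩ := step1 H hH
      obtain ⟨g2, h2⟩ := step1 K hK
      obtain ⟨g, hg⟩ := key _ _ (isPiHall_map_conj hH g1) (isPiHall_map_conj hK g2) h1 h2
      refine ⟨g2⁻¹ * (g * g1), ?_⟩
      rw [← map_conj_conj, ← map_conj_conj, ← hg, map_conj_conj]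
      simp only [inv_mul_cancel, map_one]
      exact (Subgroup.map_id K).symm
    intro H K hH hK hHA2 hKA2
    have hle : ∀ H : Subgroup G, H ⊓ A = HA → H ≤ normalizer (HA : Set G) := by
      intro H he
      rw [← he]
      exact Coprime.le_normalizer_inf le_normalizer le_normalizer_of_normal
    have himg : ∀ H : Subgroup G, IsPiHall π H → IsPiHall π (H.map f) := fun H hH =>
      ⟨fun p hp h => hH.1 p hp (h.trans (card_map_dvd H f)),
        fun p hp hπ h => hH.2 p hp hπ (h.trans (index_map_dvd H hs))⟩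
    obtain ⟨gb, hgb⟩ := hconjQ _ _ (himg H hH) (himg K hK)
    obtain ⟨g0, rfl⟩ := hs gb
    obtain ⟨a, ha, hn⟩ := hfr g0
    set g := a * g0 with hg
    have hfg : f g = f g0 := by
      have : f a = 1 := by rwa [← MonoidHom.mem_ker, hker]
      rw [hg, map_mul, this, one_mul]
    set H2 := H.map (MulAut.conj g).toMonoidHom with hH2
    have hH2A : H2 ⊓ A = HA := by
      apply le_antisymm
      · rintro _ ⟨⟨x, hx, rfl⟩, hxA⟩
        have hxA' : x ∈ A := by
          have := Normal.conj_mem (inferInstance : A.Normal) _ hxA g⁻¹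
          simpa [mul_assoc] using this
        exact (mem_normalizer_iff.1 hn x).1 (hHA2 ▸ ⟨hx, hxA'⟩ : x ∈ HA)
      · intro y hy
        have h1 : g⁻¹ * y * g ∈ HA := by
          rw [mem_normalizer_iff.1 hn (g⁻¹ * y * g)]
          simpa [mul_assoc] using hy
        rw [← hHA2] at h1
        exact ⟨⟨g⁻¹ * y * g, h1.1, by simp [mul_assoc]⟩, hHAA hy⟩
    have hH2 : IsPiHall π H2 := isPiHall_map_conj hH g
    -- both lie in `M := N(HA) ⊓ (K ⊔ A)`
    set M : Subgroup G := normalizer (HA : Set G) ⊓ (K ⊔ A) with hM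
    have hKM : K ≤ M := le_inf (hle K hKA2) le_sup_left
    have hHM : H2 ≤ M := by
      refine le_inf (hle H2 hH2A) ?_
      rintro _ ⟨x, hx, rfl⟩
      have h1 : f ((MulAut.conj g).toMonoidHom x) ∈ K.map f := by
        rw [hgb]
        exact ⟨f x, ⟨x, hx, rfl⟩, by simp [hfg]⟩
      have h2 : (MulAut.conj g).toMonoidHom x ∈ (K.map f).comap f := h1
      rwa [comap_map_eq, hker] at h2
    have hHAM : HA ≤ M := le_inf le_normalizer (hHAA.trans le_sup_right)
    have hrel : A.relIndex M ∣ Nat.card K := by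
      have h1 : A.relIndex (K ⊔ A) ∣ Nat.card K := by
        rw [relIndex_sup_right]; exact relIndex_dvd_card _ _
      refine Dvd.dvd.trans ?_ h1
      have : A.relIndex M = Nat.card (M.map f) := by
        rw [← relIndex_bot_left, ← map_bot f, relIndex_map_map, bot_sup_eq, hker,
          relIndex_sup_right]
      have h' : A.relIndex (K ⊔ A) = Nat.card ((K ⊔ A).map f) := by
        rw [← relIndex_bot_left, ← map_bot f, relIndex_map_map, bot_sup_eq, hker,
          sup_assoc, sup_idem]
      rw [this, h']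
      exact card_dvd_of_le (map_mono inf_le_right)
    obtain ⟨-, hD⟩ := sep_aux (π := π) hFT _ M rfl (sep_subgroupOf inferInstance inf_le_left
      hHAM hHAA (fun p hp h => hHA'.1 p hp (hcHA ▸ h))
      (fun p hp hπ h => hHA'.2 p hp hπ (hiHA ▸ h)) (fun p hp h => hK.1 p hp (h.trans hrel)))
    have hhall : ∀ L : Subgroup G, IsPiHall π L → L ≤ M → IsPiHall π (L.subgroupOf M) :=
      fun L hL hLM => ⟨fun p hp h => hL.1 p hp
          (by rwa [Nat.card_congr (subgroupOfEquivOfLe hLM).toEquiv] at h),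
        fun p hp hπ h => hL.2 p hp hπ (h.trans (relIndex_dvd_index_of_le hLM))⟩
    obtain ⟨m, hm⟩ := hD (K.subgroupOf M) (H2.subgroupOf M) (hhall K hK hKM) (hhall H2 hH2 hHM).1
    refine ⟨(m : G) * g, ?_⟩
    rw [← map_conj_conj]
    refine exists_conj_eq (Solvable.card_eq_of_isPiHall hH2 hK) fun u hu => ?_
    exact hm ⟨u, hHM hu⟩ hu

end Cfsg.Agent.PiHall23
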