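import Cfsg.Prelude.Def_HallClasses
import Cfsg.Agent.Lib.Coprime.Action
import Cfsg.Agent.Lib.Solvable.HallPi
import Cfsg.Agent.Lib.OddOrderGlue.Basic

/-!
π-separable finite groups satisfy D_π, and C_π is closed under extensions, both given the
odd order theorem (used only for: of two groups of coprime order one is solvable).
-/

set_option autoImplicit false
set_option linter.style.haveILetI false

namespace Cfsg.Agent.PiHall23

open Subgroup
open Cfsg.Agent.OddOrderGlue

universe u

/-- A normal series with every factor a π-number or a π'-number. -/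
def Sep (π : Set ℕ) (G : Type u) [Group G] : Prop :=
  ∃ (n : ℕ) (H : Fin (n + 1) → Subgroup G), H 0 = ⊥ ∧ H (Fin.last n) = ⊤ ∧ Monotone H ∧
    (∀ i, (H i).Normal) ∧
      ∀ i : Fin n, (∀ q : ℕ, q.Prime → q ∣ (H i.castSucc).relIndex (H i.succ) → q ∈ π) ∨
        (∀ q : ℕ, q.Prime → q ∣ (H i.castSucc).relIndex (H i.succ) → q ∉ π)

variable {π : Set ℕ}

theorem sep_quotient {G : Type u} [Group G] (h : Sep π G) (N : Subgroup G) [N.Normal] :
    Sep π (G ⧸ N) := by
  obtain ⟨n, H, h0, h1, hm, hn, hf⟩ := h
  have hs : Function.Surjective (QuotientGroup.mk' N) := QuotientGroup.mk'_surjective N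
  refine ⟨n, fun i => (H i).map (QuotientGroup.mk' N), by simp [h0],
    by simp [h1, map_top_of_surjective _ hs], fun i j hij => map_mono (hm hij),
    fun i => (hn i).map _ hs, fun i => ?_⟩
  have hd : ((H i.castSucc).map (QuotientGroup.mk' N)).relIndex ((H i.succ).map (QuotientGroup.mk' N))
      ∣ (H i.castSucc).relIndex (H i.succ) := by
    rw [relIndex_map_map, QuotientGroup.ker_mk']
    haveI := hn i.castSucc
    rw [sup_comm (H i.succ) N]
    have he : (H i.castSucc ⊔ N).relIndex (N ⊔ H i.succ)
        = (H i.castSucc ⊔ N).relIndex (H i.succ) := by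
      haveI : (H i.castSucc ⊔ N).Normal := inferInstance
      have e1 := relIndex_sup_right (H := H i.succ) (K := H i.castSucc ⊔ N)
      rw [← e1]
      congr 1
      apply le_antisymm
      · exact sup_le (le_sup_of_le_right le_sup_right) le_sup_left
      · exact sup_le le_sup_right (sup_le (le_sup_of_le_right (hm (Fin.castSucc_le_succ i))) le_sup_left)
    rw [he]
    exact relIndex_dvd_of_le_left _ le_sup_left
  exact (hf i).imp (fun h q hq hqd => h q hq (hqd.trans hd)) (fun h q hq hqd => h q hq (hqd.trans hd))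

/-- Of two finite groups of coprime order one has odd order, hence is solvable. -/
theorem solvable_or (hFT : FeitThompson.{u}) {G : Type u} [Group G] [Finite G] {A B : Subgroup G}
    (h : (Nat.card A).Coprime (Nat.card B)) : Group.IsSolvable A ∨ Group.IsSolvable B := by
  rcases Nat.even_or_odd (Nat.card A) with hA | hA
  · refine Or.inr (hFT _ (Nat.odd_iff.2 ?_))
    by_contra hB
    exact Nat.not_coprime_of_dvd_of_dvd (by norm_num) (even_iff_two_dvd.1 hA)
      (Nat.dvd_of_mod_eq_zero (by omega)) h
  · exact Or.inl (hFT _ hA)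

theorem coprime_pi {a b : ℕ} (ha : ∀ p : ℕ, p.Prime → p ∣ a → p ∈ π)
    (hb : ∀ p : ℕ, p.Prime → p ∈ π → ¬ p ∣ b) : a.Coprime b :=
  Nat.coprime_of_dvd fun p hp h1 h2 => hb p hp (ha p hp h1) h2

theorem exists_first {G : Type u} [Group G] [Finite G] (h : Sep π G)
    (hG : 1 < Nat.card G) :
    ∃ N : Subgroup G, N.Normal ∧ N ≠ ⊥ ∧
      ((∀ q : ℕ, q.Prime → q ∣ Nat.card N → q ∈ π) ∨
       (∀ q : ℕ, q.Prime → q ∈ π → ¬ q ∣ Nat.card N)) := by
  classical
  obtain ⟨n, H, h0, h1, -, hn, hf⟩ := h
  have key : ∃ i : Fin n, H i.castSucc = ⊥ ∧ H i.succ ≠ ⊥ := by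
    by_contra hne
    push Not at hne
    have hall : ∀ i, H i = ⊥ := fun i => Fin.induction h0 (fun j hj => hne j hj) i
    have := hall (Fin.last n)
    rw [h1] at this
    have hc := congrArg (fun K : Subgroup G => Nat.card K) this
    simp only [card_top, card_bot] at hc
    omega
  obtain ⟨i, hi0, hi1⟩ := key
  refine ⟨H i.succ, hn _, hi1, ?_⟩
  have := hf i
  rw [hi0, relIndex_bot_left] at this
  exact this.imp id fun h q hq hπ hd => h q hq hd hπ

/-- π-separable groups have Hall π-subgroups, which absorb all π-subgroups up to conjugacy. -/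
theorem sep_aux (hFT : FeitThompson.{u}) : ∀ (n : ℕ) (G : Type u) [Group G] [Finite G],
    Nat.card G = n → Sep π G → (∃ K : Subgroup G, IsPiHall π K) ∧
      ∀ H U : Subgroup G, IsPiHall π H → IsPiSubgroup π U → ∃ g : G, ∀ u ∈ U, g * u * g⁻¹ ∈ H := by
  intro n
  induction n using Nat.strong_induction_on with
  | _ n ih =>
    intro G _ _ hn hsep
    rcases Nat.lt_or_ge 1 (Nat.card G) with hG | hG
    swap
    · have hGc : Nat.card G = 1 := le_antisymm hG Nat.card_pos
      haveI : Subsingleton G := (Nat.card_eq_one_iff_unique.1 hGc).1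
      refine ⟨⟨⊥, fun p hp h => absurd (Nat.dvd_one.1 (by simpa using h)) hp.ne_one,
        fun p hp _ h => absurd (Nat.dvd_one.1 (by simpa [hGc] using h)) hp.ne_one⟩,
        fun H U _ _ => ⟨1, fun u _ => by rw [Subsingleton.elim (1 * u * 1⁻¹) 1]; exact H.one_mem⟩⟩
    obtain ⟨N, hN, hN1, hcase⟩ := exists_first hsep hG
    haveI := hN
    set f := QuotientGroup.mk' N with hf
    have hs : Function.Surjective f := QuotientGroup.mk'_surjective N
    have hker : f.ker = N := QuotientGroup.ker_mk' N
    obtain ⟨⟨K, hK⟩, hD⟩ := ih _ (by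
        rw [← hn, N.card_eq_card_quotient_mul_card_subgroup]
        exact lt_mul_right Nat.card_pos ((one_lt_card_iff_ne_bot N).2 hN1))
      (G ⧸ N) rfl (sep_quotient hsep N)
    -- the image of a Hall subgroup is a Hall subgroup
    have himg : ∀ H : Subgroup G, IsPiHall π H → IsPiHall π (H.map f) := fun H hH =>
      ⟨fun p hp h => hH.1 p hp (h.trans (card_map_dvd H f)),
        fun p hp hπ h => hH.2 p hp hπ (h.trans (index_map_dvd H hs))⟩
    have himgU : ∀ U : Subgroup G, IsPiSubgroup π U → IsPiSubgroup π (U.map f) :=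
      fun U hU p hp h => hU p hp (h.trans (card_map_dvd U f))
    have hMidx : (K.comap f).index = K.index := index_comap_of_surjective _ hs
    have hNM : N ≤ K.comap f := hker.symm.le.trans (ker_le_comap f K)
    have hMc : Nat.card (K.comap f) = Nat.card N * Nat.card K := by
      have e1 := (K.comap f).card_mul_index
      have e2 := K.card_mul_index
      have e3 := N.card_eq_card_quotient_mul_card_subgroup
      have hpos : 0 < K.index := Nat.pos_of_ne_zero index_ne_zero_of_finite
      apply Nat.eq_of_mul_eq_mul_right hpos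
      rw [hMidx] at e1
      rw [e1, mul_assoc, e2, e3, mul_comm]
    -- reduction of containment to `g U g⁻¹ ≤ H ⊔ N`
    have hred : ∀ H U : Subgroup G, IsPiHall π H → IsPiSubgroup π U →
        ∃ g : G, ∀ u ∈ U, g * u * g⁻¹ ∈ H ⊔ N := by
      intro H U hH hU
      obtain ⟨gb, hgb⟩ := hD _ _ (himg H hH) (himgU U hU)
      obtain ⟨g, rfl⟩ := hs gb
      refine ⟨g, fun u hu => ?_⟩
      have h1 := hgb (f u) ⟨u, hu, rfl⟩
      rw [← map_inv, ← map_mul, ← map_mul] at h1
      have h2 : g * u * g⁻¹ ∈ (H.map f).comap f := h1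
      rwa [comap_map_eq, hker] at h2
    rcases hcase with hπ | hπ'
    · refine ⟨⟨K.comap f, ?_, ?_⟩, fun H U hH hU => ?_⟩
      · intro p hp h
        rw [hMc] at h
        exact (hp.dvd_mul.1 h).elim (hπ p hp) (hK.1 p hp)
      · intro p hp hpπ h
        rw [hMidx] at h
        exact hK.2 p hp hpπ h
      · obtain ⟨g, hg⟩ := hred H U hH hU
        -- a normal π-subgroup lies in every Hall π-subgroup
        have hNH : N ≤ H := by
          have hsupc : ∀ p : ℕ, p.Prime → p ∣ Nat.card ↥(H ⊔ N) → p ∈ π := by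
            intro p hp h
            rw [← card_mul_index (N.subgroupOf (H ⊔ N)),
              Nat.card_congr (subgroupOfEquivOfLe (le_sup_right : N ≤ H ⊔ N)).toEquiv] at h
            change p ∣ Nat.card N * N.relIndex (H ⊔ N) at h
            rw [relIndex_sup_right] at h
            exact (hp.dvd_mul.1 h).elim (hπ p hp)
              fun h' => hH.1 p hp (h'.trans (relIndex_dvd_card _ _))
          have he : H.relIndex (H ⊔ N) = 1 :=
            Nat.eq_one_of_dvd_coprimes (coprime_pi hsupc hH.2) (relIndex_dvd_card _ _)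
              (relIndex_dvd_index_of_le le_sup_left)
          exact le_sup_right.trans (relIndex_eq_one.1 he)
        refine ⟨g, fun u hu => ?_⟩
        have := hg u hu
        rwa [sup_eq_left.2 hNH] at this
    · -- `N` is a π'-group
      have hcopK : (Nat.card K).Coprime (Nat.card N) := coprime_pi hK.1 hπ'
      haveI : (N.subgroupOf (K.comap f)).Normal := inferInstance
      have hc1 : Nat.card (N.subgroupOf (K.comap f)) = Nat.card N :=
        Nat.card_congr (subgroupOfEquivOfLe hNM).toEquiv
      have hc2 : (N.subgroupOf (K.comap f)).index = Nat.card K := by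
        have e := (N.subgroupOf (K.comap f)).card_mul_index
        rw [hc1, hMc] at e
        exact Nat.eq_of_mul_eq_mul_left Nat.card_pos e
      obtain ⟨B, hB⟩ := exists_right_complement'_of_coprime (N := N.subgroupOf (K.comap f))
        (by rw [hc1, hc2]; exact hcopK.symm)
      have hBc : Nat.card (B.map (K.comap f).subtype) = Nat.card K := by
        rw [← hc2, hB.symm.index_eq_card]
        exact (Nat.card_congr (B.equivMapOfInjective _ (subtype_injective _)).toEquiv).symm
      refine ⟨⟨B.map (K.comap f).subtype, ?_, ?_⟩, fun H U hH hU => ?_⟩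
      · intro p hp h
        exact hK.1 p hp (hBc ▸ h)
      · intro p hp hpπ h
        have e : (B.map (K.comap f).subtype).index = Nat.card N * K.index := by
          have e1 := (B.map (K.comap f).subtype).card_mul_index
          rw [hBc, N.card_eq_card_quotient_mul_card_subgroup, ← K.card_mul_index] at e1
          apply Nat.eq_of_mul_eq_mul_left (Nat.card_pos : 0 < Nat.card K)
          rw [e1]; ring
        rw [e] at h
        exact (hp.dvd_mul.1 h).elim (hπ' p hp hpπ) (hK.2 p hp hpπ)
      · obtain ⟨g, hg⟩ := hred H U hH hU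
        have hU' : ∀ p : ℕ, p.Prime → p ∣ Nat.card (U.map (MulAut.conj g).toMonoidHom) → p ∈ π :=
          fun p hp h => hU p hp (h.trans (card_map_dvd U _))
        have hle : U.map (MulAut.conj g).toMonoidHom ≤ N ⊔ H := by
          rintro _ ⟨u, hu, rfl⟩
          rw [sup_comm]
          exact hg u hu
        have hcop : (Nat.card (U.map (MulAut.conj g).toMonoidHom)).Coprime (Nat.card N) :=
          coprime_pi hU' hπ'
        obtain ⟨k, -, hk⟩ := Coprime.exists_conj_le_of_le_sup _ N H
          le_normalizer_of_normal le_normalizer_of_normal hcop (solvable_or hFT hcop) hle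
        refine ⟨k * g, fun u hu => ?_⟩
        have := hk _ ⟨u, hu, rfl⟩
        simpa [mul_assoc] using this

variable {G : Type u} [Group G] [Finite G]

theorem exists_conj_eq {H L : Subgroup G} (hL : Nat.card L = Nat.card H) {g : G}
    (h : ∀ u ∈ L, g * u * g⁻¹ ∈ H) : H = L.map (MulAut.conj g).toMonoidHom := by
  refine (eq_of_le_of_card_ge ?_ ?_).symm
  · rintro _ ⟨u, hu, rfl⟩
    exact h u hu
  · exact ge_of_eq ((Nat.card_congr
      (L.equivMapOfInjective _ (MulAut.conj g).injective).toEquiv).symm.trans hL)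

theorem sep_dpi (hFT : FeitThompson.{u}) (hsep : Sep π G) :
    (∃ K : Subgroup G, IsPiHall π K) ∧
      (∀ K L : Subgroup G, IsPiHall π K → IsPiHall π L →
        ∃ g : G, L = K.map (MulAut.conj g).toMonoidHom) ∧
      ∀ U : Subgroup G, IsPiSubgroup π U → ∃ K : Subgroup G, IsPiHall π K ∧ U ≤ K := by
  obtain ⟨hE, hD⟩ := sep_aux hFT _ G rfl hsep
  refine ⟨hE, fun K L hK hL => ?_, fun U hU => ?_⟩
  · obtain ⟨g, hg⟩ := hD L K hL hK.1
    exact ⟨g, exists_conj_eq (Solvable.card_eq_of_isPiHall hK hL) hg⟩
  · obtain ⟨K, hK⟩ := hE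
    obtain ⟨g, hg⟩ := hD K U hK hU
    refine ⟨K.map (MulAut.conj g⁻¹).toMonoidHom, ⟨fun p hp h => hK.1 p hp (h.trans (card_map_dvd K _)),
      fun p hp hπ h => hK.2 p hp hπ (h.trans (index_map_dvd K (MulAut.conj g⁻¹).surjective))⟩,
      fun u hu => ⟨g * u * g⁻¹, hg u hu, ?_⟩⟩
    simp [mul_assoc]

end Cfsg.Agent.PiHall23
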